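import Cfsg.Agent.H251.Small.Num
import Cfsg.Agent.H380.AltSpecTen
import Cfsg.Agent.H367.SpecSp43
import Cfsg.Agent.H367.SpecU33
import Cfsg.Agent.H455.NoNine
import Cfsg.Agent.S2475
import Cfsg.Agent.S0252
import Cfsg.Agent.S0253
import Cfsg.Agent.S0254
import Cfsg.Agent.S0256
import Cfsg.Agent.S0822
import Cfsg.Agent.Prune
set_option linter.all false
prune_inst 0x7f00000000000000000000000000000000000000000000000000000000000000000000000000000000000000000000000000000000000000000000000000000000000000000000000000000000000000003fffffffffffffffffffffffffffbeffbdffffffff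
open scoped Cfsg.Agent.FastGrp

/-!
# The element orders of the simple groups of some given orders (helper251, for S3500)
-/

set_option autoImplicit false

namespace Cfsg.Agent.H251.Der

open Cfsg Cfsg.Agent.OrdDiv

section Alt

open Cfsg.Agent.H380.AltSpec

theorem five_sub : ∀ x ∈ T 5 5, x.2 = true → x.1 ∈ [1, 2, 3, 5] := by decide

theorem seven_sub : ∀ x ∈ T 7 7, x.2 = true → x.1 ∈ [1, 2, 3, 4, 5, 6, 7] := by decide +kernel

theorem eight_sub : ∀ x ∈ T 8 8, x.2 = true → x.1 ∈ [1, 2, 3, 4, 5, 6, 7, 15] := by decide +kernel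

theorem alt_five (x : alternatingGroup (Fin 5)) : orderOf x ∈ [1, 2, 3, 5] := five_sub _ (orderOf_mem_T x) rfl

theorem alt_six (x : alternatingGroup (Fin 6)) : orderOf x ∈ [1, 2, 3, 4, 5] := six_sub _ (orderOf_mem_T x) rfl

theorem alt_seven (x : alternatingGroup (Fin 7)) : orderOf x ∈ [1, 2, 3, 4, 5, 6, 7] :=
  seven_sub _ (orderOf_mem_T x) rfl

theorem alt_eight (x : alternatingGroup (Fin 8)) : orderOf x ∈ [1, 2, 3, 4, 5, 6, 7, 15] :=
  eight_sub _ (orderOf_mem_T x) rfl

end Alt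

theorem mem_of_equiv {S K : Type*} [Group S] [Group K] (e : S ≃* K) {l : List ℕ} (h : ∀ x : K, orderOf x ∈ l)
    (x : S) : orderOf x ∈ l := by
  rw [← MulEquiv.orderOf_eq e x]
  exact h _

theorem dvd_two {n : ℕ} (h : n ∣ 2) : n ∈ [1, 2] := by
  have := Nat.le_of_dvd (by norm_num) h
  interval_cases n <;> simp_all

theorem dvd_three {n : ℕ} (h : n ∣ 3) : n ∈ [1, 3] := by
  have := Nat.le_of_dvd (by norm_num) h
  interval_cases n <;> simp_all

theorem dvd_four {n : ℕ} (h : n ∣ 4) : n ∈ [1, 2, 4] := by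
  have := Nat.le_of_dvd (by norm_num) h
  interval_cases n <;> simp_all

theorem dvd_five {n : ℕ} (h : n ∣ 5) : n ∈ [1, 5] := by
  have := Nat.le_of_dvd (by norm_num) h
  interval_cases n <;> simp_all

theorem dvd_seven {n : ℕ} (h : n ∣ 7) : n ∈ [1, 7] := by
  have := Nat.le_of_dvd (by norm_num) h
  interval_cases n <;> simp_all

theorem l34 {F : Type*} [Field F] [Fintype F] (hF : Fintype.card F = 4)
    (x : Matrix.ProjectiveSpecialLinearGroup (Fin 3) F) : orderOf x ∈ [1, 2, 3, 4, 5, 7] := by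
  have : Fact (Nat.Prime 2) := ⟨Nat.prime_two⟩
  have : CharP F 2 := H455.NoNine.charP_of_card (k := 2) Nat.prime_two (by rw [hF]; norm_num)
  have h1 := Cfsg.Agent.S2476.result (F := F) 2
  have h2 : orderOf x ∈ Set.range (orderOf : Matrix.ProjectiveSpecialLinearGroup (Fin 3) F → ℕ) := ⟨x, rfl⟩
  rw [h1, hF] at h2
  rcases h2 with h | h | h | h | ⟨-, h⟩
  · norm_num at h
    have := dvd_seven h
    simp only [List.mem_cons, List.not_mem_nil, or_false] at this ⊢
    omega
  · norm_num at h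
    have := dvd_five h
    simp only [List.mem_cons, List.not_mem_nil, or_false] at this ⊢
    omega
  · norm_num at h
    have := dvd_three h
    simp only [List.mem_cons, List.not_mem_nil, or_false] at this ⊢
    omega
  · norm_num at h
    have := dvd_two h
    simp only [List.mem_cons, List.not_mem_nil, or_false] at this ⊢
    omega
  · have := dvd_four h
    simp only [List.mem_cons, List.not_mem_nil, or_false] at this ⊢
    omega

variable {S : Type} [Group S] [Finite S] [IsSimpleGroup S]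

theorem ord_60 (OT : OrderTable.{0}) (hS : ∀ (X : Type) [Group X] [Finite X] [IsSimpleGroup X], Cfsg.IsKnownSimple' X)
    (hna : ¬ ∀ x y : S, x * y = y * x) (h : Nat.card S = 60) (x : S) : orderOf x ∈ [1, 2, 3, 5] := by
  obtain ⟨g, hg, hr⟩ := exists_real_filter OT (hS S) hna (l := [(2, 2), (3, 1), (5, 1)])
    (N := 60) (by decide +kernel) (by rw [h]) (fun o => Nat.beq o 60) (by rw [h]; rfl)
  rw [show ((cands [(2, 2), (3, 1), (5, 1)] 60).filter fun g => Nat.beq (ordN g) 60) =
    [.alt 5, .psl 2 4, .psl 2 5] by decide +kernel] at hg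
  simp only [List.mem_cons, List.not_mem_nil, or_false] at hg
  rcases hg with rfl | rfl | rfl
  · obtain ⟨e⟩ := hr
    exact mem_of_equiv e alt_five x
  · obtain ⟨F, _, _, hF, ⟨e⟩⟩ := hr
    obtain ⟨f⟩ := Cfsg.Agent.S0252.result (F := F) hF
    exact mem_of_equiv (e.trans f) alt_five x
  · obtain ⟨F, _, _, hF, ⟨e⟩⟩ := hr
    obtain ⟨f⟩ := Cfsg.Agent.S0253.result (F := F) hF
    exact mem_of_equiv (e.trans f) alt_five x

theorem ord_360 (OT : OrderTable.{0})
    (hS : ∀ (X : Type) [Group X] [Finite X] [IsSimpleGroup X], Cfsg.IsKnownSimple' X)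
    (hna : ¬ ∀ x y : S, x * y = y * x) (h : Nat.card S = 360) (x : S) : orderOf x ∈ [1, 2, 3, 4, 5] := by
  obtain ⟨g, hg, hr⟩ := exists_real_filter OT (hS S) hna (l := [(2, 3), (3, 2), (5, 1)])
    (N := 360) (by decide +kernel) (by rw [h]) (fun o => Nat.beq o 360) (by rw [h]; rfl)
  rw [show ((cands [(2, 3), (3, 2), (5, 1)] 360).filter fun g => Nat.beq (ordN g) 360) =
    [.alt 6, .psl 2 9] by decide +kernel] at hg
  simp only [List.mem_cons, List.not_mem_nil, or_false] at hg
  rcases hg with rfl | rfl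
  · obtain ⟨e⟩ := hr
    exact mem_of_equiv e alt_six x
  · obtain ⟨F, _, _, hF, ⟨e⟩⟩ := hr
    obtain ⟨f⟩ := Cfsg.Agent.S0254.result (F := F) hF
    exact mem_of_equiv (e.trans f) alt_six x

theorem ord_2520 (OT : OrderTable.{0})
    (hS : ∀ (X : Type) [Group X] [Finite X] [IsSimpleGroup X], Cfsg.IsKnownSimple' X)
    (hna : ¬ ∀ x y : S, x * y = y * x) (h : Nat.card S = 2520) (x : S) : orderOf x ∈ [1, 2, 3, 4, 5, 6, 7] := by
  obtain ⟨g, hg, hr⟩ := exists_real_filter OT (hS S) hna (l := [(2, 3), (3, 2), (5, 1), (7, 1)])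
    (N := 2520) (by decide +kernel) (by rw [h]) (fun o => Nat.beq o 2520) (by rw [h]; rfl)
  rw [show ((cands [(2, 3), (3, 2), (5, 1), (7, 1)] 2520).filter fun g => Nat.beq (ordN g) 2520) =
    [.alt 7] by decide +kernel] at hg
  simp only [List.mem_cons, List.not_mem_nil, or_false] at hg
  subst hg
  obtain ⟨e⟩ := hr
  exact mem_of_equiv e alt_seven x

theorem ord_20160 (OT : OrderTable.{0})
    (hS : ∀ (X : Type) [Group X] [Finite X] [IsSimpleGroup X], Cfsg.IsKnownSimple' X)
    (hna : ¬ ∀ x y : S, x * y = y * x) (h : Nat.card S = 20160) (x : S) :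
    orderOf x ∈ [1, 2, 3, 4, 5, 6, 7, 15] := by
  obtain ⟨g, hg, hr⟩ := exists_real_filter OT (hS S) hna (l := [(2, 6), (3, 2), (5, 1), (7, 1)])
    (N := 20160) (by decide +kernel) (by rw [h]) (fun o => Nat.beq o 20160) (by rw [h]; rfl)
  rw [show ((cands [(2, 6), (3, 2), (5, 1), (7, 1)] 20160).filter fun g => Nat.beq (ordN g) 20160) =
    [.alt 8, .psl 4 2, .psl 3 4] by decide +kernel] at hg
  simp only [List.mem_cons, List.not_mem_nil, or_false] at hg
  rcases hg with rfl | rfl | rfl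
  · obtain ⟨e⟩ := hr
    exact mem_of_equiv e alt_eight x
  · obtain ⟨F, _, _, hF, ⟨e⟩⟩ := hr
    obtain ⟨f⟩ := Cfsg.Agent.S0256.result (F := F) hF
    exact mem_of_equiv (e.trans f) alt_eight x
  · obtain ⟨F, _, _, hF, ⟨e⟩⟩ := hr
    have := mem_of_equiv e (l34 hF) x
    simp only [List.mem_cons, List.not_mem_nil, or_false] at this ⊢
    omega

theorem ord_6048 (OT : OrderTable.{0})
    (hS : ∀ (X : Type) [Group X] [Finite X] [IsSimpleGroup X], Cfsg.IsKnownSimple' X)
    (hna : ¬ ∀ x y : S, x * y = y * x) (h : Nat.card S = 6048) (x : S) :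
    orderOf x ∈ [1, 2, 3, 4, 6, 7, 8, 12] := by
  obtain ⟨g, hg, hr⟩ := exists_real_filter OT (hS S) hna (l := [(2, 5), (3, 3), (7, 1)])
    (N := 6048) (by decide +kernel) (by rw [h]) (fun o => Nat.beq o 6048) (by rw [h]; rfl)
  rw [show ((cands [(2, 5), (3, 3), (7, 1)] 6048).filter fun g => Nat.beq (ordN g) 6048) =
    [.psu 3 3] by decide +kernel] at hg
  simp only [List.mem_cons, List.not_mem_nil, or_false] at hg
  subst hg
  obtain ⟨F, _, _, hF, ⟨e⟩⟩ := hr
  refine mem_of_equiv e (fun y => ?_) x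
  have h1 : orderOf y ∈ Set.range (orderOf : PSU 3 F 3 → ℕ) := ⟨y, rfl⟩
  rw [H367.SpecU33.range_orderOf (by rw [hF]; norm_num)] at h1
  simp only [Set.mem_insert_iff, Set.mem_singleton_iff] at h1
  simp only [List.mem_cons, List.not_mem_nil, or_false]
  exact h1

theorem psp_two_three {F : Type*} [Field F] [Fintype F] (hF : Fintype.card F = 3) (x : PSp 2 F) :
    orderOf x ∈ [1, 2, 3, 4, 5, 6, 9, 12] := by
  have h1 : orderOf x ∈ Set.range (orderOf : PSp 2 F → ℕ) := ⟨x, rfl⟩
  rw [H367.SpecSp43.range_orderOf hF] at h1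
  simp only [Set.mem_insert_iff, Set.mem_singleton_iff] at h1
  simp only [List.mem_cons, List.not_mem_nil, or_false]
  exact h1

theorem psu_four_two {F : Type*} [Field F] [Fintype F] (hF : Fintype.card F = 4) (x : PSU 4 F 2) :
    orderOf x ∈ [1, 2, 3, 4, 5, 6, 9, 12] := by
  obtain ⟨e⟩ := Cfsg.Agent.S0822.result (F := F) (K := ZMod 3) hF (ZMod.card 3)
  exact mem_of_equiv e (psp_two_three (ZMod.card 3)) x

theorem ord_25920 (OT : OrderTable.{0})
    (hS : ∀ (X : Type) [Group X] [Finite X] [IsSimpleGroup X], Cfsg.IsKnownSimple' X)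
    (hna : ¬ ∀ x y : S, x * y = y * x) (h : Nat.card S = 25920) (x : S) :
    orderOf x ∈ [1, 2, 3, 4, 5, 6, 9, 12] := by
  obtain ⟨g, hg, hr⟩ := exists_real_filter OT (hS S) hna (l := [(2, 6), (3, 4), (5, 1)])
    (N := 25920) (by decide +kernel) (by rw [h]) (fun o => Nat.beq o 25920) (by rw [h]; rfl)
  rw [show ((cands [(2, 6), (3, 4), (5, 1)] 25920).filter fun g => Nat.beq (ordN g) 25920) =
    [.psp 2 3, .psu 4 2] by decide +kernel] at hg
  simp only [List.mem_cons, List.not_mem_nil, or_false] at hg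
  rcases hg with rfl | rfl
  · obtain ⟨F, _, _, hF, ⟨e⟩⟩ := hr
    exact mem_of_equiv e (psp_two_three hF) x
  · obtain ⟨F, _, _, hF, ⟨e⟩⟩ := hr
    exact mem_of_equiv e (psu_four_two (by rw [hF]; norm_num)) x

end Cfsg.Agent.H251.Der
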