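import Cfsg.Agent.H251.Der.Facts
import Cfsg.Agent.H824.ProdLem
import Cfsg.Agent.H4.Bar_m3
import Cfsg.Agent.H149.PGUGoal
import Cfsg.Agent.H163.PG.PslAut
import Cfsg.Agent.H481.TBound
import Cfsg.Agent.Prune
set_option linter.all false
prune_inst 0x7f00000000000000000000000000000000000000000000000000000000000000000000000000000000000000000000000000000000000000000000000000000000000000000000000000000000000000003fffffffffffffffffffffffffffbeffbdffffffff
open scoped Cfsg.Agent.FastGrp

/-!
# Normal simple subgroups with trivial centralizer: the orders `60`, `360`, `25920` (helper251, for S3500, S3502)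
-/

set_option autoImplicit false

namespace Cfsg.Agent.H251.Der

open Subgroup Cfsg Cfsg.Agent.OrdDiv

theorem card_aut_congr {S K : Type*} [Group S] [Group K] (e : S ≃* K) :
    Nat.card (MulAut S) = Nat.card (MulAut K) := Nat.card_congr (MulAut.congr e).toEquiv

section F

variable {S : Type} [Group S] [Finite S] [IsSimpleGroup S]

theorem aut_60 (OT : OrderTable.{0}) (hS : ∀ (X : Type) [Group X] [Finite X] [IsSimpleGroup X], Cfsg.IsKnownSimple' X)
    (hna : ¬ ∀ x y : S, x * y = y * x) (h : Nat.card S = 60) : ¬ 9 ∣ Nat.card (MulAut S) := by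
  obtain ⟨g, hg, hr⟩ := exists_real_filter OT (hS S) hna (l := [(2, 2), (3, 1), (5, 1)])
    (N := 60) (by decide +kernel) (by rw [h]) (fun o => Nat.beq o 60) (by rw [h]; rfl)
  rw [show ((cands [(2, 2), (3, 1), (5, 1)] 60).filter fun g => Nat.beq (ordN g) 60) =
    [.alt 5, .psl 2 4, .psl 2 5] by decide +kernel] at hg
  simp only [List.mem_cons, List.not_mem_nil, or_false] at hg
  rcases hg with rfl | rfl | rfl
  · obtain ⟨e⟩ := hr
    rw [card_aut_congr e]
    exact H4.Bar.not_nine
  · obtain ⟨F, _, _, hF, ⟨e⟩⟩ := hr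
    obtain ⟨f⟩ := Cfsg.Agent.S0252.result (F := F) hF
    rw [card_aut_congr (e.trans f)]
    exact H4.Bar.not_nine
  · obtain ⟨F, _, _, hF, ⟨e⟩⟩ := hr
    obtain ⟨f⟩ := Cfsg.Agent.S0253.result (F := F) hF
    rw [card_aut_congr (e.trans f)]
    exact H4.Bar.not_nine

theorem aut_360 (OT : OrderTable.{0})
    (hS : ∀ (X : Type) [Group X] [Finite X] [IsSimpleGroup X], Cfsg.IsKnownSimple' X)
    (hna : ¬ ∀ x y : S, x * y = y * x) (h : Nat.card S = 360) : Nat.card (MulAut S) = 1440 := by
  obtain ⟨g, hg, hr⟩ := exists_real_filter OT (hS S) hna (l := [(2, 3), (3, 2), (5, 1)])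
    (N := 360) (by decide +kernel) (by rw [h]) (fun o => Nat.beq o 360) (by rw [h]; rfl)
  rw [show ((cands [(2, 3), (3, 2), (5, 1)] 360).filter fun g => Nat.beq (ordN g) 360) =
    [.alt 6, .psl 2 9] by decide +kernel] at hg
  simp only [List.mem_cons, List.not_mem_nil, or_false] at hg
  rcases hg with rfl | rfl
  · obtain ⟨e⟩ := hr
    rw [card_aut_congr e]
    exact H824.ProdLem.card_aut_a6
  · obtain ⟨F, _, _, hF, ⟨e⟩⟩ := hr
    obtain ⟨f⟩ := Cfsg.Agent.S0254.result (F := F) hF
    rw [card_aut_congr (e.trans f)]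
    exact H824.ProdLem.card_aut_a6

theorem aut_25920 (OT : OrderTable.{0})
    (hS : ∀ (X : Type) [Group X] [Finite X] [IsSimpleGroup X], Cfsg.IsKnownSimple' X)
    (hna : ¬ ∀ x y : S, x * y = y * x) (h : Nat.card S = 25920) : Nat.card (MulAut S) = 51840 := by
  obtain ⟨g, hg, hr⟩ := exists_real_filter OT (hS S) hna (l := [(2, 6), (3, 4), (5, 1)])
    (N := 25920) (by decide +kernel) (by rw [h]) (fun o => Nat.beq o 25920) (by rw [h]; rfl)
  rw [show ((cands [(2, 6), (3, 4), (5, 1)] 25920).filter fun g => Nat.beq (ordN g) 25920) =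
    [.psp 2 3, .psu 4 2] by decide +kernel] at hg
  have hna' : ¬ IsMulCommutative S := fun h => hna fun a b => h.is_comm.comm a b
  have hcenter : ∀ {K : Type} [Group K], (S ≃* K) → Subgroup.center K = ⊥ := by
    intro K _ e
    have hsK : IsSimpleGroup K := MulEquiv.isSimpleGroup e.symm
    rcases hsK.eq_bot_or_eq_top_of_normal (Subgroup.center K) inferInstance with h1 | h1
    · exact h1
    · exfalso
      apply hna
      intro x y
      apply e.injective
      have h2 : e x ∈ Subgroup.center K := by rw [h1]; exact Subgroup.mem_top _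
      rw [map_mul, map_mul]
      exact (Subgroup.mem_center_iff.1 h2 (e y)).symm
  have hout : ∀ {K : Type} [Group K] [Finite K], (S ≃* K) → Nat.card (Cfsg.Out K) = 2 → Nat.card (MulAut S) = 51840 := by
    intro K _ _ e h2
    have hsK : IsSimpleGroup K := MulEquiv.isSimpleGroup e.symm
    have h1 := H934.OutB.card_out_mul K (by
      intro hc
      apply hna
      intro x y
      apply e.injective
      rw [map_mul, map_mul]
      exact hc.is_comm.comm _ _)
    rw [card_aut_congr e, ← h1, h2, ← Nat.card_congr e.toEquiv, h]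
  simp only [List.mem_cons, List.not_mem_nil, or_false] at hg
  rcases hg with rfl | rfl
  · obtain ⟨F, _, _, hF, ⟨e⟩⟩ := hr
    have hF' : Fintype.card F = 3 := hF
    have : Finite (PSp 2 F) := Finite.of_equiv _ e.toEquiv
    refine hout e ?_
    have h3 := H163.PG.card_out_psp (n := 2) (F := F) (p := 3) (f := 1) Nat.prime_three le_rfl (by rw [hF']; norm_num)
      le_rfl (fun _ => by rw [hF']) (hcenter e)
    rw [h3]
    norm_num
  · obtain ⟨F, _, _, hF, ⟨e⟩⟩ := hr
    have : Finite (PSU 4 F 2) := Finite.of_equiv _ e.toEquiv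
    have : Fact (Nat.Prime 2) := ⟨Nat.prime_two⟩
    refine hout e ?_
    rw [H149.PGU.card_out_psu (p := 2) (f := 1) (q := 2) (n := 4) (K := F) le_rfl (by norm_num) (by rw [hF])
      (by norm_num) (by norm_num)]
    norm_num

end F

/-- the largest normal `p'`-subgroup is normal -/
theorem normal_map {H : Type*} [Group H] [Finite H] {L : Subgroup H} [hL : L.Normal] {R : Subgroup L} [hR : R.Normal]
    (hs : IsSimpleGroup (L ⧸ R)) {p : ℕ} (hpR : ¬ p ∣ Nat.card R) (hpQ : p ∣ Nat.card (L ⧸ R)) :
    (R.map L.subtype).Normal := by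
  have key : ∀ g : H, ∀ r ∈ R, MulAut.conjNormal g r ∈ R := by
    intro g r hr
    set R' : Subgroup L := R.map (MulAut.conjNormal g : MulAut L).toMonoidHom with hR'
    have hn : R'.Normal := hR.map _ (MulAut.conjNormal g : MulAut L).surjective
    have hc : Nat.card R' = Nat.card R :=
      Nat.card_congr (R.equivMapOfInjective _ (MulAut.conjNormal g : MulAut L).injective).symm.toEquiv
    have hn2 : (R'.map (QuotientGroup.mk' R)).Normal := hn.map _ (QuotientGroup.mk'_surjective R)
    rcases hs.eq_bot_or_eq_top_of_normal _ hn2 with h | h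
    · rw [Subgroup.map_eq_bot_iff, QuotientGroup.ker_mk'] at h
      exact h ⟨r, hr, rfl⟩
    · exfalso
      apply hpR
      rw [← hc]
      have h1 := Subgroup.card_map_dvd R' (QuotientGroup.mk' R)
      rw [h, Subgroup.card_top] at h1
      exact hpQ.trans h1
  refine ⟨?_⟩
  rintro _ ⟨r, hr, rfl⟩ g
  refine ⟨MulAut.conjNormal g r, key g r hr, ?_⟩
  rw [Subgroup.coe_subtype, MulAut.conjNormal_apply]

/-- a normal simple subgroup without small normal subgroups outside -/
theorem card_dvd_aut {M : Type*} [Group M] [Finite M] {L : Subgroup M} [hL : L.Normal] (hs : IsSimpleGroup L)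
    (hna : ¬ ∀ x y : L, x * y = y * x) (h : ∀ K : Subgroup M, K.Normal → Nat.card K ∣ L.index → K = ⊥) :
    Nat.card M ∣ Nat.card (MulAut L) := by
  have hcomm : ∀ z ∈ centralizer (L : Set M), z ∈ L → z = 1 := by
    intro z hz hzL
    rcases hs.eq_bot_or_eq_top_of_normal (Subgroup.center L) inferInstance with h1 | h1
    · have h2 : (⟨z, hzL⟩ : L) ∈ Subgroup.center L := by
        rw [Subgroup.mem_center_iff]
        intro y
        apply Subtype.ext
        exact Subgroup.mem_centralizer_iff.1 hz y y.2
      rw [h1, Subgroup.mem_bot] at h2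
      exact congrArg Subtype.val h2
    · exfalso
      apply hna
      intro x y
      have h2 : y ∈ Subgroup.center L := by rw [h1]; exact Subgroup.mem_top _
      exact Subgroup.mem_center_iff.1 h2 x
  have hC : centralizer (L : Set M) = ⊥ := by
    apply h _ inferInstance
    have hinj : Function.Injective ((QuotientGroup.mk' L).comp (centralizer (L : Set M)).subtype) := by
      rw [injective_iff_map_eq_one]
      intro z hz
      apply Subtype.ext
      exact hcomm z z.2 ((QuotientGroup.eq_one_iff (z : M)).1 hz)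
    exact Subgroup.card_dvd_of_injective _ hinj
  have hinj : Function.Injective (MulAut.conjNormal : M →* MulAut L) := by
    rw [injective_iff_map_eq_one]
    intro g hg
    have h1 : g ∈ centralizer (L : Set M) := by
      rw [Subgroup.mem_centralizer_iff]
      intro x hx
      have h2 : (MulAut.conjNormal g : MulAut L) ⟨x, hx⟩ = ⟨x, hx⟩ := by rw [hg]; rfl
      have h3 : g * x * g⁻¹ = x := by
        have := congrArg Subtype.val h2
        rwa [MulAut.conjNormal_apply] at this
      exact (mul_inv_eq_iff_eq_mul.1 h3).symm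
    rwa [hC, Subgroup.mem_bot] at h1
  exact Subgroup.card_dvd_of_injective _ hinj

end Cfsg.Agent.H251.Der
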